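import Groth.Agent.FinPresOn.Basic
import Groth.Agent.PullFlat.Tensor
import Mathlib.Topology.Sheaves.Stalks
import Mathlib.CategoryTheory.Abelian.Exact

/-!
Direct image of modules along a closed embedding of ringed spaces with surjective structure map.
-/

set_option backward.isDefEq.respectTransparency false
set_option backward.isDefEq.respectTransparency.types false
set_option linter.style.haveILetI false
set_option autoImplicit false
set_option maxHeartbeats 1000000

universe u

namespace Groth.Agent.ClosedPush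

open CategoryTheory Limits Opposite TopologicalSpace
open Groth.Agent.PullFlat (Loc sect_ext sect_glue)
open Groth.Agent.ModSiteFlat (rmap rmap_comp rmap_smul)

attribute [local instance] ModSiteFlat.instModuleSect

variable {Z X : TopCat.{u}} (i : Z ⟶ X) {O_Z : TopCat.Sheaf CommRingCat.{u} Z} {O_X : TopCat.Sheaf CommRingCat.{u} X}
  (c : O_X ⟶ ((Opens.map i).sheafPushforwardContinuous CommRingCat.{u} (Opens.grothendieckTopology X) (Opens.grothendieckTopology Z)).obj O_Z)

/-- preimage of opens -/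
abbrev pre (U : Opens X) : Opens Z := (Opens.map i).obj U

/-- the morphism of ringed sites -/
noncomputable abbrev mor : ModSite.RMor O_Z O_X := ModSite.RMor.ofFlat (Opens.map i) c

/-- the structure map on sections -/
abbrev sh (U : Opens X) : O_X.obj.obj (op U) →+* O_Z.obj.obj (op (pre i U)) := (c.hom.app (op U)).hom

lemma rmap_id {T : TopCat.{u}} {O : TopCat.Sheaf CommRingCat.{u} T} (M : ModSite.Mod O) {V : Opens T} (g : V ⟶ V) (x : ModSite.sect M V) :
    rmap M g x = x := by
  rw [Subsingleton.elim g (𝟙 V)]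
  exact ConcreteCategory.congr_hom (M.val.presheaf.map_id _) x

lemma rmap_bij {T : TopCat.{u}} {O : TopCat.Sheaf CommRingCat.{u} T} (M : ModSite.Mod O) {V W : Opens T} (h : W = V) (g : W ⟶ V) :
    Function.Bijective (rmap M g) := by
  subst h
  exact ⟨fun a b hab => by rwa [rmap_id, rmap_id] at hab, fun a => ⟨a, rmap_id M g a⟩⟩

lemma nat {T : TopCat.{u}} {O : TopCat.Sheaf CommRingCat.{u} T} {M N : ModSite.Mod O} (φ : M ⟶ N) {W U : Opens T} (g : W ⟶ U)
    (x : ModSite.sect M U) : φ.val.app (op W) (rmap M g x) = rmap N g (φ.val.app (op U) x) :=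
  PresheafOfModules.naturality_apply φ.val g.op x

lemma sh_nat {W U : Opens X} (g : W ⟶ U) (b : O_X.obj.obj (op U)) :
    sh i c W ((O_X.obj.map g.op).hom b) = (O_Z.obj.map ((Opens.map i).map g).op).hom (sh i c U b) :=
  ConcreteCategory.congr_hom (c.hom.naturality g.op) b

/-- sections of the structure sheaf of the subspace lift locally -/
lemma loc_lift_sharp (hc : Sheaf.IsLocallySurjective c) {U : Opens X} (a : O_Z.obj.obj (op (pre i U))) :
    Loc (Opens.grothendieckTopology X) U fun W g =>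
      ∃ b : O_X.obj.obj (op W), sh i c W b = (O_Z.obj.map ((Opens.map i).map g).op).hom a := by
  haveI := hc
  refine (Loc.of_mem (Presheaf.imageSieve_mem (Opens.grothendieckTopology X) c.hom (U := op U) a)).mono ?_
  rintro W g ⟨b, hb⟩
  exact ⟨b, hb⟩

lemma exists_pre (hi : Topology.IsInducing i) (V : Opens Z) : ∃ U : Opens X, pre i U = V :=
  ⟨hi.functorObj V, hi.map_functorObj V⟩

lemma exists_pre_le (hi : Topology.IsInducing i) {U : Opens X} {V : Opens Z} (h : V ≤ pre i U) :
    ∃ U' : Opens X, U' ≤ U ∧ pre i U' = V := by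
  obtain ⟨U₀, hU₀⟩ := exists_pre i hi V
  refine ⟨U ⊓ U₀, inf_le_left, Opens.ext (Set.ext fun z => ?_)⟩
  rw [← hU₀]
  exact ⟨fun hz => hz.2, fun hz => ⟨(hU₀ ▸ h) hz, hz⟩⟩

/-- covers upstairs restrict to covers of the preimage -/
lemma loc_pre {U : Opens X} {P : ∀ ⦃W : Opens X⦄, (W ⟶ U) → Prop} (h : Loc (Opens.grothendieckTopology X) U P) :
    Loc (Opens.grothendieckTopology Z) (pre i U) fun V _ => ∃ (W : Opens X) (g : W ⟶ U), P g ∧ V ≤ pre i W := by
  obtain ⟨R, hR, hR'⟩ := h
  refine ⟨⟨fun V _ => ∃ (W : Opens X) (g : W ⟶ U), R g ∧ V ≤ pre i W,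
    fun {V V'} g hg h => ?_⟩, fun z hz => ?_, fun V g ⟨W, g', hg', hV⟩ => ⟨W, g', hR' g' hg', hV⟩⟩
  · obtain ⟨W, g', hg', hV⟩ := hg
    exact ⟨W, g', hg', h.le.trans hV⟩
  · obtain ⟨W, g, hg, hz'⟩ := hR (i z) hz
    exact ⟨pre i W, (Opens.map i).map g, ⟨W, g, hg, le_rfl⟩, hz'⟩

variable (hi : Topology.IsClosedEmbedding i) (hc : Sheaf.IsLocallySurjective c)

include hi in
theorem faithful : (mor i c).push.Faithful := by
  refine ⟨fun {M N} φ ψ h => ?_⟩
  ext ⟨V⟩ (x : ModSite.sect M V)
  obtain ⟨U, rfl⟩ := exists_pre i hi.isInducing V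
  exact congrArg (fun t : (mor i c).push.obj M ⟶ (mor i c).push.obj N => t.val.app (op U) x) h

include hi hc in
theorem full : (mor i c).push.Full := by
  refine ⟨fun {M N} ψ => ?_⟩
  have hI := hi.isInducing
  let K := hI.functorObj
  have hK : ∀ V, pre i (K V) = V := hI.map_functorObj
  let φ : ∀ V : Opens Z, ModSite.sect M V → ModSite.sect N V := fun V x =>
    rmap N (eqToHom (hK V).symm) (ψ.val.app (op (K V)) (rmap M (eqToHom (hK V)) x))
  have hψ : ∀ {W U : Opens X} (g : W ⟶ U) (x : ModSite.sect M (pre i U)),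
      ψ.val.app (op W) (rmap M ((Opens.map i).map g) x) = rmap N ((Opens.map i).map g) (ψ.val.app (op U) x) :=
    fun g x => PresheafOfModules.naturality_apply ψ.val g.op x
  have key : ∀ (U : Opens X) (x : ModSite.sect M (pre i U)), φ _ x = ψ.val.app (op U) x := by
    intro U x
    have hle : U ≤ K (pre i U) := hI.le_functorObj_iff.2 le_rfl
    have h := hψ (homOfLE hle) (rmap M (eqToHom (hK (pre i U))) x)
    rw [← rmap_comp, rmap_id] at h
    rw [h]
    exact congrArg (fun t => rmap N t _) (Subsingleton.elim _ _)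
  have hnat : ∀ {V' V : Opens Z} (g : V' ⟶ V) (x : ModSite.sect M V), φ V' (rmap M g x) = rmap N g (φ V x) := by
    intro V' V g x
    obtain ⟨U, rfl⟩ := exists_pre i hI V
    obtain ⟨U', hU', rfl⟩ := exists_pre_le i hI g.le
    rw [key, key, Subsingleton.elim g ((Opens.map i).map (homOfLE hU')), hψ]
  have hadd : ∀ V (x y : ModSite.sect M V), φ V (x + y) = φ V x + φ V y := fun V x y => by
    simp only [φ]
    rw [map_add]
    exact (congrArg _ (map_add (ψ.val.app (op (K V))).hom _ _)).trans (map_add _ _ _)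
  have hsmul : ∀ (V : Opens Z) (a : O_Z.obj.obj (op V)) (x : ModSite.sect M V), φ V (a • x) = a • φ V x := by
    intro V a x
    obtain ⟨U, rfl⟩ := exists_pre i hI V
    refine sect_ext ((loc_pre i (loc_lift_sharp i c hc a)).mono ?_)
    rintro V g ⟨W, g', ⟨b, hb⟩, hV⟩
    rw [Subsingleton.elim g (homOfLE hV ≫ (Opens.map i).map g'), rmap_comp, rmap_comp]
    refine congrArg _ ?_
    rw [← hnat, rmap_smul, rmap_smul, ← hnat, ← hb, key, key]
    exact (ψ.val.app (op W)).hom.map_smul b (rmap M ((Opens.map i).map g') x)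
  refine ⟨⟨PresheafOfModules.homMk
    { app := fun V => AddCommGrpCat.ofHom (AddMonoidHom.mk' (φ V.unop) (hadd V.unop))
      naturality := fun V V' g => AddCommGrpCat.ext fun x => hnat g.unop x }
    fun V a x => hsmul V.unop a x⟩, ?_⟩
  ext ⟨U⟩ (x : ModSite.sect M (pre i U))
  exact key U x

include hi in
lemma push_map_epi {M N : ModSite.Mod O_Z} (g : M ⟶ N) [Epi g] : Epi ((mor i c).push.map g) := by
  rw [Preadditive.epi_iff_cancel_zero]
  intro H φ hφ
  ext ⟨U⟩ (s : ModSite.sect N (pre i U))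
  refine sect_ext (G := H) ?_
  obtain ⟨R, hR, hR'⟩ := FinPresOn.loc_lift_epi g s
  refine ⟨⟨fun W _ => ∃ (V : Opens Z) (a : V ⟶ pre i U), R a ∧ pre i W ≤ V ∨ pre i W = ⊥,
    fun {W W'} a h b => ?_⟩, fun x hx => ?_, fun W a h => ?_⟩
  · obtain ⟨V, a', h'⟩ := h
    refine ⟨V, a', h'.imp (fun h'' => ⟨h''.1, le_trans ((Opens.map i).map b).le h''.2⟩) fun h'' => ?_⟩
    exact le_bot_iff.1 (h'' ▸ ((Opens.map i).map b).le)
  · by_cases hxi : x ∈ Set.range i
    · obtain ⟨z, rfl⟩ := hxi
      obtain ⟨V, a, ha, hz⟩ := hR z hx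
      obtain ⟨W, hW, hWV⟩ := exists_pre_le i hi.isInducing a.le
      refine ⟨W, homOfLE hW, ⟨V, a, Or.inl ⟨ha, hWV.le⟩⟩, ?_⟩
      exact (show z ∈ pre i W from hWV.symm ▸ hz)
    · refine ⟨U ⊓ ⟨(Set.range i)ᶜ, hi.isClosed_range.isOpen_compl⟩, homOfLE inf_le_left,
        ⟨pre i U, 𝟙 _, Or.inr ?_⟩, ⟨hx, hxi⟩⟩
      exact eq_bot_iff.2 fun z hz => hz.2 ⟨z, rfl⟩
  · obtain ⟨V, a', h'⟩ := h
    have hlift : ∃ t : ModSite.sect M (pre i W), g.val.app (op (pre i W)) t = rmap N ((Opens.map i).map a) s := by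
      rcases h' with ⟨ha, hV⟩ | h0
      · obtain ⟨t, ht⟩ := hR' _ ha
        refine ⟨rmap M (homOfLE hV) t, ?_⟩
        rw [nat, ht, ← rmap_comp]
        exact congrArg (fun t => rmap N t s) (Subsingleton.elim _ _)
      · refine ⟨0, (map_zero _).trans (sect_ext ⟨⊥, fun z hz => ?_, fun V e he => absurd he (by simp)⟩)⟩
        rw [h0] at hz
        exact hz.elim
    obtain ⟨t, ht⟩ := hlift
    refine (PresheafOfModules.naturality_apply φ.val a.op s).symm.trans (Eq.trans ?_ (map_zero (rmap H a)).symm)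
    refine (congrArg (φ.val.app (op W)).hom ht.symm).trans ?_
    exact congrArg (fun f : (mor i c).push.obj M ⟶ H => f.val.app (op W) t) hφ

include hi in
theorem preservesFiniteColimits : PreservesFiniteColimits (mor i c).push := by
  haveI : (mor i c).push.PreservesEpimorphisms := ⟨fun g _ => push_map_epi i c hi g⟩
  haveI : PreservesLimitsOfSize.{0, 0} (mor i c).push := (mor i c).adj.rightAdjoint_preservesLimits
  haveI : PreservesFiniteLimits (mor i c).push := PreservesLimitsOfSize.preservesFiniteLimits _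
  haveI : (mor i c).push.PreservesHomology := Functor.preservesHomology_of_preservesEpis_and_kernels _
  exact (mor i c).push.preservesFiniteColimits_of_preservesHomology

/-- the ideal kills pushforwards -/
theorem kills_of_essImage {G : ModSite.Mod O_X} (h : (mor i c).push.essImage G) (U : Opens X)
    (a : O_X.obj.obj (op U)) (ha : sh i c U a = 0) (s : ModSite.sect G U) : a • s = 0 := by
  obtain ⟨M, ⟨e⟩⟩ := h
  have hs : s = e.hom.val.app (op U) (e.inv.val.app (op U) s) :=
    (congrArg (fun f : G ⟶ G => f.val.app (op U) s) e.inv_hom_id).symm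
  have h0 : a • (e.inv.val.app (op U) s : ModSite.sect ((mor i c).push.obj M) U) = 0 := by
    show sh i c U a • (show ModSite.sect M (pre i U) from e.inv.val.app (op U) s) = 0
    rw [ha, zero_smul]
  rw [hs]
  refine (((e.hom.val.app (op U)).hom.map_smul a _).symm.trans ?_)
  exact (congrArg _ h0).trans (map_zero _)

end Groth.Agent.ClosedPush
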