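import Groth.Agent.ClosedPush.Basic

/-!
Modules killed by the ideal of a closed embedding of ringed spaces are direct images.
-/

set_option backward.isDefEq.respectTransparency false
set_option backward.isDefEq.respectTransparency.types false
set_option linter.style.haveILetI false
set_option autoImplicit false
set_option maxHeartbeats 1000000

universe u

namespace Groth.Agent.ClosedPush

open CategoryTheory Limits Opposite TopologicalSpace
open Groth.Agent.PullFlat (Loc sect_ext sect_glue)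
open Groth.Agent.ModSiteFlat (rmap rmap_comp rmap_smul)

attribute [local instance] ModSiteFlat.instModuleSect

lemma loc_and {C : Type u} [SmallCategory C] {J : GrothendieckTopology C} {U : C}
    {P Q : ∀ ⦃W : C⦄, (W ⟶ U) → Prop} (hP : Loc J U P) (hQ : Loc J U Q) :
    Loc J U fun W g => P g ∧ Q g := by
  obtain ⟨R, hR, hR'⟩ := hP
  obtain ⟨R', hR₁, hR₂⟩ := hQ
  exact ⟨R ⊓ R', J.intersection_covering hR hR₁, fun W g hg => ⟨hR' g hg.1, hR₂ g hg.2⟩⟩

lemma isIso_of_bijective {C : Type u} [SmallCategory C] {J : GrothendieckTopology C} {O : Sheaf J CommRingCat.{u}}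
    {M N : ModSite.Mod O} (φ : M ⟶ N) (hb : ∀ U : C, Function.Bijective (φ.val.app (op U))) : IsIso φ := by
  haveI : ∀ U, IsIso ((SheafOfModules.forget _).map φ |>.app U) := fun U =>
    (ConcreteCategory.isIso_iff_bijective _).2 (hb U.unop)
  haveI : IsIso ((PresheafOfModules.toPresheaf _).map ((SheafOfModules.forget _).map φ)) :=
    @NatIso.isIso_of_isIso_app _ _ _ _ _ _ _ fun U =>
      inferInstanceAs (IsIso ((forget₂ _ AddCommGrpCat).map (((SheafOfModules.forget _).map φ).app U)))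
  haveI : IsIso ((SheafOfModules.forget _).map φ) :=
    isIso_of_reflects_iso _ (PresheafOfModules.toPresheaf _)
  exact isIso_of_reflects_iso φ (SheafOfModules.forget _)

variable {Z X : TopCat.{u}} (i : Z ⟶ X) {O_Z : TopCat.Sheaf CommRingCat.{u} Z} {O_X : TopCat.Sheaf CommRingCat.{u} X}
  (c : O_X ⟶ ((Opens.map i).sheafPushforwardContinuous CommRingCat.{u} (Opens.grothendieckTopology X) (Opens.grothendieckTopology Z)).obj O_Z)
variable {G : ModSite.Mod O_X}
variable (hG : ∀ (U : Opens X) (a : O_X.obj.obj (op U)), sh i c U a = 0 → ∀ s : ModSite.sect G U, a • s = 0)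
variable (hi : Topology.IsClosedEmbedding i) (hc : Sheaf.IsLocallySurjective c)

lemma ring_bot {V : Opens Z} (hV : V = ⊥) (a b : O_Z.obj.obj (op V)) : a = b := by
  subst hV
  refine sect_ext (G := ModSite.unit O_Z) ⟨⊥, fun z hz => hz.elim, fun W e he => absurd he (by simp)⟩

include hG in
lemma eq_zero_of_pre_bot {W : Opens X} (hW : pre i W = ⊥) (s : ModSite.sect G W) : s = 0 := by
  rw [← one_smul (O_X.obj.obj (op W)) s]
  exact hG W 1 (ring_bot hW _ _) s

include hi in
lemma covering_split {U : Opens X} {S : Sieve U}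
    (h1 : ∀ z, i z ∈ U → ∃ (W : Opens X) (g : W ⟶ U), S g ∧ i z ∈ W)
    (h2 : ∀ (W : Opens X) (g : W ⟶ U), pre i W = ⊥ → S g) : S ∈ (Opens.grothendieckTopology X) U := by
  intro x hx
  by_cases hxi : x ∈ Set.range i
  · obtain ⟨z, rfl⟩ := hxi
    exact (h1 z hx).imp fun W ⟨g, hg, hz⟩ => ⟨g, hg, hz⟩
  · exact ⟨U ⊓ ⟨(Set.range i)ᶜ, hi.isClosed_range.isOpen_compl⟩, homOfLE inf_le_left,
      h2 _ _ (eq_bot_iff.2 fun z hz => hz.2 ⟨z, rfl⟩), ⟨hx, hxi⟩⟩

include hG hi in
lemma res_bij {U' U : Opens X} (g : U' ⟶ U) (h : pre i U ≤ pre i U') : Function.Bijective (rmap G g) := by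
  let S : Sieve U :=
    { arrows := fun W _ => W ≤ U' ∨ pre i W = ⊥
      downward_closed := fun {W W'} _ hW b => hW.imp (fun h' => b.le.trans h')
        fun (h' : pre i W = ⊥) => le_bot_iff.1 (h' ▸ ((Opens.map i).map b).le) }
  have hS : S ∈ (Opens.grothendieckTopology X) U :=
    covering_split i hi (fun z hz => ⟨U', g, Or.inl le_rfl, h hz⟩) fun W a h' => Or.inr h'
  constructor
  · refine fun s t hst => sect_ext ⟨S, hS, fun W a ha => ?_⟩
    rcases ha with hW | hW
    · rw [Subsingleton.elim a (homOfLE hW ≫ g), rmap_comp, rmap_comp, hst]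
    · rw [eq_zero_of_pre_bot i c hG hW (rmap G a s), eq_zero_of_pre_bot i c hG hW (rmap G a t)]
  · intro s
    classical
    obtain ⟨t, ht⟩ := sect_glue (G := G) hS (fun W _ _ => if hW : W ≤ U' then rmap G (homOfLE hW) s else 0) (by
      intro W₁ W₂ a ha b
      rcases ha with hW | hW
      · simp only [dif_pos hW, dif_pos (b.le.trans hW)]
        rw [← rmap_comp]
        exact congrArg (fun e => rmap G e s) (Subsingleton.elim _ _)
      · have hW₂ : pre i W₂ = ⊥ := le_bot_iff.1 (hW ▸ ((Opens.map i).map b).le)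
        exact (eq_zero_of_pre_bot i c hG hW₂ _).trans (eq_zero_of_pre_bot i c hG hW₂ _).symm)
    refine ⟨t, (ht g (Or.inl le_rfl)).trans ?_⟩
    simp only [dif_pos le_rfl]
    exact rmap_id G _ s

/-- the largest open with given preimage -/
abbrev K (V : Opens Z) : Opens X := hi.isInducing.functorObj V

lemma preK {V : Opens Z} {W : Opens X} : W ≤ K i hi V ↔ pre i W ≤ V :=
  hi.isInducing.le_functorObj_iff

/-- restriction of a function to a preimage -/
abbrev resA {V : Opens Z} (a : O_Z.obj.obj (op V)) {W : Opens X} (g : W ⟶ K i hi V) : O_Z.obj.obj (op (pre i W)) :=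
  (O_Z.obj.map (homOfLE ((preK i hi).1 g.le)).op).hom a

/-- `t` is `a` times `s`, locally through lifts of `a` -/
def IsAct {V : Opens Z} (a : O_Z.obj.obj (op V)) (s t : ModSite.sect G (K i hi V)) : Prop :=
  Loc (Opens.grothendieckTopology X) (K i hi V) fun W g =>
    ∃ b : O_X.obj.obj (op W), sh i c W b = resA i hi a g ∧ rmap G g t = b • rmap G g s

include hG in
lemma smul_eq_of_sh {W : Opens X} {b b' : O_X.obj.obj (op W)} (h : sh i c W b = sh i c W b') (s : ModSite.sect G W) :
    b • s = b' • s := by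
  rw [← sub_eq_zero, ← sub_smul]
  exact hG W _ (by rw [map_sub, h, sub_self]) s

include hG in
lemma isAct_unique {V : Opens Z} {a : O_Z.obj.obj (op V)} {s t t' : ModSite.sect G (K i hi V)}
    (h : IsAct i c hi a s t) (h' : IsAct i c hi a s t') : t = t' :=
  sect_ext ((loc_and h h').mono fun W g ⟨⟨b, hb, ht⟩, b', hb', ht'⟩ => by
    rw [ht, ht', smul_eq_of_sh i c hG (hb.trans hb'.symm)])

include hc in
lemma loc_lifts {V : Opens Z} (a : O_Z.obj.obj (op V)) :
    Loc (Opens.grothendieckTopology X) (K i hi V) fun W g => ∃ b : O_X.obj.obj (op W), sh i c W b = resA i hi a g := by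
  refine (loc_lift_sharp i c hc (resA i hi a (𝟙 (K i hi V)))).mono ?_
  rintro W g ⟨b, hb⟩
  refine ⟨b, hb.trans ?_⟩
  simp only [resA, ← ConcreteCategory.comp_apply, ← Functor.map_comp]
  rfl

lemma resA_comp {V : Opens Z} (a : O_Z.obj.obj (op V)) {W W' : Opens X} (g : W ⟶ K i hi V) (h : W' ⟶ W) :
    (O_Z.obj.map ((Opens.map i).map h).op).hom (resA i hi a g) = resA i hi a (h ≫ g) := by
  simp only [resA, ← ConcreteCategory.comp_apply, ← Functor.map_comp]
  rfl

lemma sh_res {V : Opens Z} {a : O_Z.obj.obj (op V)} {W W' : Opens X} {g : W ⟶ K i hi V} (h : W' ⟶ W)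
    {b : O_X.obj.obj (op W)} (hb : sh i c W b = resA i hi a g) :
    sh i c W' ((O_X.obj.map h.op).hom b) = resA i hi a (h ≫ g) := by
  rw [sh_nat, hb, resA_comp]

include hG hc in
lemma exists_isAct {V : Opens Z} (a : O_Z.obj.obj (op V)) (s : ModSite.sect G (K i hi V)) :
    ∃ t, IsAct i c hi a s t := by
  obtain ⟨R, hR, hR'⟩ := loc_lifts i c hi hc a
  choose b hb using hR'
  obtain ⟨t, ht⟩ := sect_glue (G := G) hR (fun W g hg => b g hg • rmap G g s) (by
    intro W₁ W₂ g hg h
    rw [rmap_smul, ← rmap_comp]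
    exact smul_eq_of_sh i c hG ((sh_res i c hi h (hb g hg)).trans (hb (h ≫ g) (R.downward_closed hg h)).symm) _)
  exact ⟨t, R, hR, fun W g hg => ⟨b g hg, hb g hg, ht g hg⟩⟩

/-- the action -/
noncomputable def act {V : Opens Z} (a : O_Z.obj.obj (op V)) (s : ModSite.sect G (K i hi V)) :
    ModSite.sect G (K i hi V) :=
  (exists_isAct i c hG hi hc a s).choose

lemma act_spec {V : Opens Z} (a : O_Z.obj.obj (op V)) (s : ModSite.sect G (K i hi V)) :
    IsAct i c hi a s (act i c hG hi hc a s) :=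
  (exists_isAct i c hG hi hc a s).choose_spec

/-- the module structure on sections over the largest open with given preimage -/
noncomputable abbrev modK (V : Opens Z) : Module (O_Z.obj.obj (op V)) (ModSite.sect G (K i hi V)) where
  smul := act i c hG hi hc
  one_smul s := (isAct_unique i c hG hi (act_spec i c hG hi hc 1 s)
    (Loc.of_forall fun W g => ⟨1, by rw [map_one]; exact (map_one _).symm, (one_smul _ _).symm⟩))
  mul_smul a a' s := isAct_unique i c hG hi (act_spec i c hG hi hc (a * a') s)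
    ((loc_and (act_spec i c hG hi hc a (act i c hG hi hc a' s)) (act_spec i c hG hi hc a' s)).mono fun W g ⟨⟨b, hb, ht⟩, b', hb', ht'⟩ =>
      ⟨b * b', by rw [map_mul, hb, hb']; exact (map_mul _ _ _).symm, ht.trans ((congrArg (b • ·) ht').trans (mul_smul b b' _).symm)⟩)
  smul_zero a := isAct_unique i c hG hi (act_spec i c hG hi hc a 0)
    ((loc_lifts i c hi hc a).mono fun W g ⟨b, hb⟩ => ⟨b, hb, by rw [map_zero, smul_zero]⟩)
  smul_add a s s' := isAct_unique i c hG hi (act_spec i c hG hi hc a (s + s'))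
    ((loc_and (act_spec i c hG hi hc a s) (act_spec i c hG hi hc a s')).mono fun W g ⟨⟨b, hb, ht⟩, b', hb', ht'⟩ =>
      ⟨b, hb, by
        rw [map_add, map_add, smul_add, ← smul_eq_of_sh i c hG (hb'.trans hb.symm) (rmap G g s'), ← ht', ← ht]
        rfl⟩)
  add_smul a a' s := isAct_unique i c hG hi (act_spec i c hG hi hc (a + a') s)
    ((loc_and (act_spec i c hG hi hc a s) (act_spec i c hG hi hc a' s)).mono fun W g ⟨⟨b, hb, ht⟩, b', hb', ht'⟩ =>
      ⟨b + b', by rw [map_add, hb, hb']; exact (map_add _ _ _).symm, by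
        rw [add_smul, ← ht, ← ht']
        exact map_add _ _ _⟩)
  zero_smul s := isAct_unique i c hG hi (act_spec i c hG hi hc 0 s)
    (Loc.of_forall fun W g => ⟨0, by rw [map_zero]; exact (map_zero _).symm, by rw [map_zero, zero_smul]⟩)

lemma Kmono {V' V : Opens Z} (g : V' ⟶ V) : K i hi V' ≤ K i hi V :=
  leOfHom (hi.isInducing.functor.map g)

lemma act_res {V' V : Opens Z} (g : V' ⟶ V) (a : O_Z.obj.obj (op V)) (s : ModSite.sect G (K i hi V)) :
    rmap G (homOfLE (Kmono i hi g)) (act i c hG hi hc a s) =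
      act i c hG hi hc ((O_Z.obj.map g.op).hom a) (rmap G (homOfLE (Kmono i hi g)) s) := by
  refine (isAct_unique i c hG hi (act_spec i c hG hi hc _ _) ?_).symm
  obtain ⟨R, hR, hR'⟩ := act_spec i c hG hi hc a s
  refine (Loc.of_mem ((Opens.grothendieckTopology X).pullback_stable (homOfLE (Kmono i hi g)) hR)).mono ?_
  intro W h hW
  obtain ⟨b, hb, ht⟩ := hR' _ hW
  refine ⟨b, hb.trans ?_, by rw [← rmap_comp, ← rmap_comp, ht]⟩
  simp only [resA, ← ConcreteCategory.comp_apply, ← Functor.map_comp]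
  rfl

include hG hi in
lemma presheaf_isSheaf (P : (Opens Z)ᵒᵖ ⥤ AddCommGrpCat.{u})
    (e : ∀ V, P.obj (op V) ≃ ModSite.sect G (K i hi V))
    (he : ∀ {V' V : Opens Z} (g : V' ⟶ V) (x : P.obj (op V)),
      e V' (P.map g.op x) = rmap G (homOfLE (Kmono i hi g)) (e V x)) :
    Presheaf.IsSheaf (Opens.grothendieckTopology Z) P := by
  rw [Presheaf.isSheaf_iff_isSheaf_forget _ _ (forget AddCommGrpCat.{u}), isSheaf_iff_isSheaf_of_type]
  intro V S hS x hx
  let S' : Sieve (K i hi V) :=
    { arrows := fun W _ => (∃ (V' : Opens Z) (g : V' ⟶ V), S g ∧ pre i W ≤ V') ∨ pre i W = ⊥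
      downward_closed := fun {W W'} _ hW b => hW.imp
        (fun ⟨V', g, hg, h⟩ => ⟨V', g, hg, ((Opens.map i).map b).le.trans h⟩)
        fun (h' : pre i W = ⊥) => le_bot_iff.1 (h' ▸ ((Opens.map i).map b).le) }
  have hS' : S' ∈ (Opens.grothendieckTopology X) (K i hi V) := by
    refine covering_split i hi (fun z hz => ?_) fun W a h => Or.inr h
    obtain ⟨V', g, hg, hz'⟩ := hS z ((hi.isInducing.mem_functorObj_iff V).1 hz)
    exact ⟨K i hi V', homOfLE (Kmono i hi g), Or.inl ⟨V', g, hg, (preK i hi).1 le_rfl⟩,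
      (hi.isInducing.mem_functorObj_iff V').2 hz'⟩
  let val : ∀ (W : Opens X) (V' : Opens Z) (g : V' ⟶ V) (_ : S g) (_ : pre i W ≤ V'), ModSite.sect G W :=
    fun W V' g hg h => rmap G (homOfLE ((preK i hi).2 h)) (e V' (x g hg))
  have val_res : ∀ {W W' : Opens X} (b : W' ⟶ W) {V₁ V₂ : Opens Z} (g₁ : V₁ ⟶ V) (h₁ : S g₁)
      (l₁ : pre i W ≤ V₁) (g₂ : V₂ ⟶ V) (h₂ : S g₂) (l₂ : pre i W' ≤ V₂),
      rmap G b (val W V₁ g₁ h₁ l₁) = val W' V₂ g₂ h₂ l₂ := by
    intro W W' b V₁ V₂ g₁ h₁ l₁ g₂ h₂ l₂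
    let V₃ : Opens Z := V₁ ⊓ V₂
    have l₃ : W' ≤ K i hi V₃ := (preK i hi).2 (le_inf (((Opens.map i).map b).le.trans l₁) l₂)
    have h12 := hx (homOfLE (inf_le_left : V₃ ≤ V₁)) (homOfLE (inf_le_right : V₃ ≤ V₂)) h₁ h₂ (Subsingleton.elim _ _)
    have e1 := congrArg (fun t => rmap G (homOfLE l₃) (e V₃ t)) h12
    change rmap G (homOfLE l₃) (e V₃ (P.map _ (x g₁ h₁))) = rmap G (homOfLE l₃) (e V₃ (P.map _ (x g₂ h₂))) at e1
    rw [he, he, ← rmap_comp, ← rmap_comp] at e1
    simp only [val]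
    rw [← rmap_comp]
    refine (congrArg (fun m => rmap G m _) (Subsingleton.elim _ _)).trans (e1.trans ?_)
    exact congrArg (fun m => rmap G m _) (Subsingleton.elim _ _)
  classical
  obtain ⟨t, ht⟩ := sect_glue (G := G) hS' (fun W _ _ =>
      if h : ∃ (V' : Opens Z) (g : V' ⟶ V), S g ∧ pre i W ≤ V' then
        val W h.choose h.choose_spec.choose h.choose_spec.choose_spec.1 h.choose_spec.choose_spec.2
      else 0) (by
    intro W₁ W₂ a ha b
    rcases ha with hW | hW
    · have hW₂ : ∃ (V' : Opens Z) (g : V' ⟶ V), S g ∧ pre i W₂ ≤ V' := by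
        obtain ⟨V', g, hg, h⟩ := hW
        exact ⟨V', g, hg, ((Opens.map i).map b).le.trans h⟩
      simp only [dif_pos hW, dif_pos hW₂]
      exact val_res b hW.choose_spec.choose hW.choose_spec.choose_spec.1 hW.choose_spec.choose_spec.2
        hW₂.choose_spec.choose hW₂.choose_spec.choose_spec.1 hW₂.choose_spec.choose_spec.2
    · have hW₂ : pre i W₂ = ⊥ := le_bot_iff.1 (hW ▸ ((Opens.map i).map b).le)
      exact (eq_zero_of_pre_bot i c hG hW₂ _).trans (eq_zero_of_pre_bot i c hG hW₂ _).symm)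
  have hval : ∀ {V' : Opens Z} (g : V' ⟶ V) (hg : S g),
      rmap G (homOfLE (Kmono i hi g)) t = e V' (x g hg) := by
    intro V' g hg
    have h : ∃ (V'' : Opens Z) (g' : V'' ⟶ V), S g' ∧ pre i (K i hi V') ≤ V'' := ⟨V', g, hg, (preK i hi).1 le_rfl⟩
    rw [ht (homOfLE (Kmono i hi g)) (Or.inl h)]
    simp only [dif_pos h]
    refine Eq.trans ?_ ((val_res (𝟙 _) _ h.choose_spec.choose_spec.1 h.choose_spec.choose_spec.2 g hg
      ((preK i hi).1 le_rfl)).trans ?_)
    · exact (rmap_id G _ _).symm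
    · exact rmap_id G _ _
  refine ⟨(e V).symm t, fun V' g hg => (e V').injective ?_, fun t' ht' => (e V).injective ?_⟩
  · change e V' (P.map g.op _) = _
    rw [he, Equiv.apply_symm_apply, hval g hg]
  · rw [Equiv.apply_symm_apply]
    refine sect_ext ⟨S', hS', fun W a hW => ?_⟩
    rcases hW with ⟨V', g, hg, h⟩ | hW
    · have h' := congrArg (e V') (ht' g hg)
      change e V' (P.map g.op _) = _ at h'
      rw [he, ← hval g hg] at h'
      rw [Subsingleton.elim a (homOfLE ((preK i hi).2 h) ≫ homOfLE (Kmono i hi g)), rmap_comp, rmap_comp]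
      exact congrArg _ h'
    · exact (eq_zero_of_pre_bot i c hG hW _).trans (eq_zero_of_pre_bot i c hG hW _).symm

include hG hi hc in
theorem mem_essImage : (mor i c).push.essImage G := by
  let P : (Opens Z)ᵒᵖ ⥤ AddCommGrpCat.{u} := hi.isInducing.functor.op ⋙ G.val.presheaf
  letI inst : ∀ V : (Opens Z)ᵒᵖ, Module ((O_Z.obj ⋙ forget₂ CommRingCat.{u} RingCat.{u}).obj V) (P.obj V) :=
    fun V => modK i c hG hi hc V.unop
  let M₀ : PresheafOfModules.{u} (O_Z.obj ⋙ forget₂ CommRingCat.{u} RingCat.{u}) :=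
    PresheafOfModules.ofPresheaf P fun V V' g a x => by
      have h := act_res i c hG hi hc g.unop a x
      exact h
  let M : ModSite.Mod O_Z := ⟨M₀, presheaf_isSheaf i c hG hi P (fun V => Equiv.refl _) fun g x => rfl⟩
  have hle : ∀ U : Opens X, U ≤ K i hi (pre i U) := fun U => (preK i hi).2 le_rfl
  let θ : (mor i c).push.obj M ⟶ G := ⟨PresheafOfModules.homMk
    { app := fun U => AddCommGrpCat.ofHom (rmap G (homOfLE (hle U.unop)))
      naturality := fun U U' g => AddCommGrpCat.ext fun x => by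
        change rmap G (homOfLE (hle U'.unop)) (rmap G (homOfLE (Kmono i hi ((Opens.map i).map g.unop))) x) =
          rmap G g.unop (rmap G (homOfLE (hle U.unop)) x)
        rw [← rmap_comp, ← rmap_comp]
        exact congrArg (fun m => rmap G m (show ModSite.sect G (K i hi (pre i U.unop)) from x)) (Subsingleton.elim _ _) }
    fun U b x => by
      change rmap G (homOfLE (hle U.unop)) (act i c hG hi hc (sh i c U.unop b) x) =
        (show O_X.obj.obj (op U.unop) from b) • rmap G (homOfLE (hle U.unop)) x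
      refine sect_ext ?_
      obtain ⟨R, hR, hR'⟩ := act_spec i c hG hi hc (sh i c U.unop b) x
      refine (Loc.of_mem ((Opens.grothendieckTopology X).pullback_stable (homOfLE (hle U.unop)) hR)).mono ?_
      intro W h hW
      obtain ⟨b', hb', ht⟩ := hR' _ hW
      rw [← rmap_comp, ht, rmap_smul, ← rmap_comp]
      refine smul_eq_of_sh i c hG (hb'.trans ?_) _
      rw [sh_nat]
      simp only [resA]
      exact congrArg (fun m => (O_Z.obj.map m).hom (sh i c U.unop b)) (Subsingleton.elim _ _)⟩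
  haveI : IsIso θ := isIso_of_bijective θ fun U => res_bij i c hG hi (homOfLE (hle U)) ((preK i hi).1 le_rfl)
  exact ⟨M, ⟨asIso θ⟩⟩

end Groth.Agent.ClosedPush
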